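import Cfsg.Agent.Lib.SG.McA

/-! # The facts for `McL` (generated data) -/

set_option autoImplicit false
set_option maxRecDepth 100000

namespace Cfsg.Lib.SG.Mc

open Cfsg.Lib.Calc Cfsg.Lib.Grp Cfsg.Lib.Mathieu Cfsg.Lib.T2 Cfsg.Lib.McR Cfsg.Lib.LyU Subgroup

theorem h0 : γ 0 = 1 := ok.zero rfl
theorem simple : IsSimpleGroup JJ := have := Leech.simple_McL; nu_mg.equiv.some.symm.isSimpleGroup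
theorem out : Nat.card (Out JJ) = 2 := (card_out_congr nu_mg.equiv.some).symm.trans OutS.McL.card_out
theorem σz : σ (γ 1) = γ 1 := ok.im tw (ps := [(§1, §1)]) (by decide +kernel) _ (.head _)
theorem σ1 : ¬Inn σ := out_of (ps := [(§36, §6 ⊡ §18 ⊡ (.inv §6) ⊡ §18 ⊡ §6), (§37, §10), (§4, §54)]) hC σz (ok.im tw (by decide +kernel)) (ok.holdsF (by decide +kernel))
theorem cT : Nat.card (K 2) = 2 ^ 7 := (ok.card 2).trans (by decide +kernel)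
theorem oT : ¬2 ∣ (K 2).index :=
  odd_index (b := 7016625) cT ((Nat.card_congr nu_mg.equiv.some.toEquiv).symm.trans Leech.card_McL) (by decide) (by decide)
theorem ft : Ft K γ [§27, §29, §19 ⊡ §20, §2, §27 ⊡ §20, §28, §0, §1] := ft_of (gs := [§0, §25, §20, §25 ⊡ §19, §19 ⊡ (.inv §20), (.inv §20) ⊡ §25, §19 ⊡ (.inv §20) ⊡ (.inv §25), §20 ⊡ §19 ⊡ (.inv §20)]) (ok.holdsF (by decide +kernel)) (by decide)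
theorem gn : Gn (γ 1) (γ 9) := gn_of top (ok.holdsF (by decide +kernel))
theorem der : Der (γ 1) := der_of (j := §1) (c := (.inv §5) ⊡ §18 ⊡ §5) (d := (.pow (.inv §5) 2) ⊡ §17) (ok.holdsF (by decide +kernel))
theorem fq : Fq (false = true) (γ 1) := fq_of (m := 10) (cs := [§5, §6, §7]) (t := §5 ⊡ (.inv §7) ⊡ §5 ⊡ (.inv §7) ⊡ §5 ⊡ (.inv §7)) h0 hC (in_of (ps := [(§5, §7 ⊡ §16 ⊡ §17 ⊡ §6 ⊡ §18), (§6, (.inv §7) ⊡ §8 ⊡ (.inv §6) ⊡ (.inv §7)), (§7, §18 ⊡ §6 ⊡ (.inv §5) ⊡ (.inv §7) ⊡ §16)]) out σ2 σ1 hC σz (ok.im tw (by decide +kernel)) (ok.holdsF (by decide +kernel)) (by decide))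
  (ok.holdsF (by decide +kernel)) (by decide)
theorem tf : (tF (m.ws 2) (m.ws 3) (m.ws 4) (m.ws 5) [§31, §32, .pow §32 2, (.inv §31) ⊡ §32, .inv §32, .pow (.inv §31) 2, §0, §32 ⊡ §31, .inv §31, .pow §31 2, (.pow §31 2) ⊡ §32, §31 ⊡ (.pow §32 2), (.pow (.inv §31) 2) ⊡ §32, .pow §31 3, §31 ⊡ §32] [§33]).holds K γ := ok.holdsF (by decide +kernel)
theorem ou : Ou 11 JJ := have := simple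
  ou_sig (fun _ => cen1 der z1) out σ2 σ1 oT (nrm_im (k := 2) (ps := [(§19, §20 ⊡ §25 ⊡ §1), (§20, §2 ⊡ §29), (§25, .inv §25)]) rfl (ok.im tw (by decide +kernel)) (ok.holdsF (by decide +kernel)))
    (o1_of (k := 3) (x := §1) (x' := (.pow §5 2) ⊡ §18 ⊡ (.pow (.inv §5) 2)) (c := §17 ⊡ §18 ⊡ §17) (d := §5 ⊡ §16 ⊡ (.inv §6) ⊡ §16 ⊡ §8) (a := §28) (a' := §28 ⊡ §1) (y := §56) (e := §57)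
      (ok.im tw (by decide +kernel)) (ok.holdsF (by decide +kernel)))
    (ok.tw tw (gs := [(§55 ⊡ §27, §55 ⊡ (§28 ⊡ §19)), (§55 ⊡ (§25 ⊡ §2), §55 ⊡ (§27 ⊡ §20)), (§55 ⊡ (§2 ⊡ §30), §55 ⊡ ((.inv §20) ⊡ §25)), (§55 ⊡ §29, §55 ⊡ (§19 ⊡ §30 ⊡ (.inv §20))), (§55 ⊡ §30, §55 ⊡ (§20 ⊡ §26 ⊡ (.inv §25))), (§55 ⊡ §0, §55 ⊡ §25), (§0, §0), (§55 ⊡ (§20 ⊡ §19), §55 ⊡ (§20 ⊡ §2 ⊡ §29)), (§19, §20 ⊡ §25 ⊡ §1), (§55 ⊡ (.inv §25), §55 ⊡ (.pow §25 2)), (§25, .inv §25), (§55 ⊡ §20, §55 ⊡ (§26 ⊡ §19)), (§55 ⊡ (.inv §19), §55 ⊡ (§1 ⊡ (.inv §20))), (.inv §25, §25), (§28, §1 ⊡ §28), (§20, §2 ⊡ §29), (§55 ⊡ §2, §55 ⊡ (§26 ⊡ (.inv §25))), (§55 ⊡ §25, §55 ⊡ §0), (§55 ⊡ (§19 ⊡ §20), §55 ⊡ (§20 ⊡ (.inv §19) ⊡ (.inv §25))), (§55 ⊡ (§27 ⊡ §25), §55 ⊡ (§28 ⊡ §30)), (.inv §19, §20 ⊡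 §26 ⊡ (.inv §25)), (§55 ⊡ (§2 ⊡ (.inv §20)), §55 ⊡ (§19 ⊡ (.pow §25 2))), (§29, §27 ⊡ §28), (§55 ⊡ (§20 ⊡ §29), §55 ⊡ ((.inv §19) ⊡ §27))]) (ok.im tw (by decide +kernel)) (by decide) (by decide +kernel))
theorem r3 : R3 (γ 1) := by
  obtain ⟨f, t, e, c⟩ := cover
  obtain ⟨a, b, d, g⟩ := ok.holdsF (φ := .and (tr §2 §1 §1) (.and (.one (§2 ⊡ §2)) (.and (.not (.one §2)) (.not (.eq §2 §1))))) (by decide +kernel)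
  have := Finite.of_equiv _ f.symm.toEquiv
  refine e ▸ (r3_cover (w := f.symm (γ 2)) c (fun p => z1 (by rw [← e, p, map_one])) (f.injective ?_) (f.injective ?_)
    (fun p => d (f.symm.injective (p.trans (map_one _).symm))) fun p => g ((f.symm_apply_eq.1 p).trans e)).map f
  exacts [by rw [map_mul, map_mul, e, f.apply_symm_apply]; exact a, by rw [map_mul, map_one, f.apply_symm_apply]; exact b]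
theorem gz : Gd (dt False 11 4 K γ) (γ 1) := have := simple
  ⟨⟨der, fq.mono nofun, r3, .inr (r4_of (m := 0) (fu_of (q := §1) (a := §2) (b := §3) (gs := [§18 ⊡ §17, §16 ⊡ §10 ⊡ §17 ⊡ §18, §5 ⊡ §8 ⊡ §7 ⊡ (.inv §5) ⊡ §17, §0, §17 ⊡ §18 ⊡ §16, §18]) ft rfl oT (ok.holdsF (by decide +kernel))) gn (ok.holdsF (by decide +kernel))
      (ok.holdsF (φ := .one (§2 ⊡ §2)) (by decide +kernel))), r5_of (m := 5) hC (fun _ => cen1 der z1) ou.out2 (by rw [ok.card]; decide +kernel)⟩,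
    tz_of (j := §1) (g := §0) (a := §0) (b := §0) (c := §26) (d := §20 ⊡ §27) (ok.holdsF (by decide +kernel))⟩

theorem gd (j : JJ) : j * j = 1 → j ≠ 1 → Gd (dt False 11 4 K γ) j :=
  (fu_of (q := §0) (a := §1) (b := §1) (gs := [(.inv §11) ⊡ (§18 ⊡ §17), (.inv §11) ⊡ (§16 ⊡ §10 ⊡ §17 ⊡ §18), (.inv §11) ⊡ (§5 ⊡ §8 ⊡ §7 ⊡ (.inv §5) ⊡ §17), (.inv §11) ⊡ §0, (.inv §11) ⊡ (§17 ⊡ §18 ⊡ §16), (.inv §11) ⊡ §18, .inv §11]) ft rfl oT (ok.holdsF (by decide +kernel))).gd gz gz gz (by rw [ev_l, h0, mul_one, one_mul])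
theorem ep : (dt False 11 4 K γ).EP := ep_of (cs := [§34, §35]) hC (in_of (ps := [(§34, (.inv §6) ⊡ (.inv §7) ⊡ §17 ⊡ §10 ⊡ §5), (§35, §5 ⊡ (.inv §6) ⊡ (.inv §5) ⊡ §6 ⊡ §17)]) out σ2 σ1 hC σz (ok.im tw (by decide +kernel)) (ok.holdsF (by decide +kernel)) (by decide)) (ok.holdsF (by decide +kernel))
theorem dp : (dt False 11 4 K γ).DP := dp_of (gs := [§7 ⊡ §17 ⊡ §18 ⊡ §16 ⊡ §7, §38 ⊡ (§10 ⊡ (.inv §5) ⊡ §18 ⊡ §5 ⊡ §6), §38 ⊡ (§10 ⊡ §7 ⊡ §8 ⊡ (.inv §6) ⊡ §7), §38 ⊡ (§6 ⊡ (.inv §7) ⊡ (.inv §6) ⊡ §5 ⊡ §17)]) (cs := [§36, §37, §4]) hC (in_of (ps := [(§36, §6 ⊡ §18 ⊡ (.inv §6) ⊡ §18 ⊡ §6), (§37, §10), (§4, §54)]) out σ2 σ1 hC σz (ok.im tw (by decide +kernel)) (ok.holdsF (by decide +kernel)) (by decide)) (ok.holdsF (by decide +kernel))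
theorem iE : In γ (γ 1) (m.ws 5) := (in_of (ps := [(§2, §27 ⊡ §20), (§26, §20 ⊡ §1 ⊡ §27), (§27, §19 ⊡ §30 ⊡ (.inv §19))]) out σ2 σ1 hC σz (ok.im tw (by decide +kernel)) (ok.holdsF (by decide +kernel)) (by decide))
theorem h1 : (h1F 10 [.pow §6 3, (.pow §5 2) ⊡ (.inv §6) ⊡ §5 ⊡ (.inv (§6 ⊡ (.inv §5) ⊡ §8)), .pow §5 7] [(§6 ⊡ (.inv §5) ⊡ (.inv §6) ⊡ §8 ⊡ (.inv §5), §6 ⊡ (.inv §5) ⊡ (.inv §6) ⊡ §8 ⊡ (.inv §5)), (§5 ⊡ §6 ⊡ §5 ⊡ §8 ⊡ (.inv §6), (.inv §5) ⊡ §8 ⊡ §5), ((.inv §6) ⊡ §5 ⊡ (.inv §6) ⊡ (.pow (.inv §5) 2), (.inv §6) ⊡ §5 ⊡ (.inv §6) ⊡ (.pow (.inv §5) 2))]).holds K γ := ok.holdsF (by decide +kernel)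
theorem big : 20160 < Nat.card (genW γ [§31, §32]) := lt_of_lt_of_le (by decide +kernel) (le_card_of hi (by decide) rep cb)

theorem fx : Fx (dt False 11 4 K γ) := have := simple
  fx_of (ns := [§31, §32, .pow §32 2, (.inv §31) ⊡ §32, .inv §32, .pow (.inv §31) 2, §0, §32 ⊡ §31, .inv §31, .pow §31 2, (.pow §31 2) ⊡ §32, §31 ⊡ (.pow §32 2), (.pow (.inv §31) 2) ⊡ §32, .pow §31 3, §31 ⊡ §32]) h0 hC rfl rfl rfl rfl rfl cT oT ((ok.card 3).trans (by decide +kernel)) ((ok.card 4).trans (by decide +kernel))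
    ((ok.card 5).trans (by decide +kernel)) le_rfl big ou gd tf (by decide) iE ft (ok.few (by decide +kernel)) (ok.holdsF (by decide +kernel)) h1 (by decide) fq.fz ep
    (.inl (ok.holdsF (φ := .eq §3 §2) (by decide +kernel))) dp
    (cq_of (gs := [§47, §48, §49, §50, §51, §52, §53]) (cl := [§1, §44, §45, §46]) (us := [(§5, §44 ⊡ §1 ⊡ §44 ⊡ §45 ⊡ §1 ⊡ §45 ⊡ §46 ⊡ §1 ⊡ §46 ⊡ §45 ⊡ §1 ⊡ §45 ⊡ §44 ⊡ §1 ⊡ §44 ⊡ §46 ⊡ §44 ⊡ §1 ⊡ §44 ⊡ §46 ⊡ §1 ⊡ §46 ⊡ §44 ⊡ §46 ⊡ §1 ⊡ §46), (§6, §44 ⊡ §1 ⊡ §46 ⊡ §45 ⊡ §44 ⊡ §1 ⊡ §46 ⊡ §44 ⊡ §45 ⊡ §44 ⊡ §45 ⊡ §1 ⊡ §45 ⊡ §44 ⊡ §1 ⊡ §44 ⊡ §46 ⊡ §1 ⊡ §46 ⊡ §45 ⊡ §44 ⊡ §1 ⊡ §44 ⊡ §45 ⊡ §1 ⊡ §45 ⊡ §44 ⊡ §45 ⊡ §1 ⊡ §45), (§7, §1 ⊡ §46 ⊡ §44 ⊡ §1 ⊡ §44 ⊡ §46 ⊡ §1 ⊡ §46 ⊡ §44 ⊡ §45 ⊡ §44 ⊡ §1 ⊡ §44 ⊡ §45 ⊡ §1 ⊡ §45 ⊡ §44 ⊡ §46 ⊡ §1 ⊡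 §46 ⊡ §44 ⊡ §45 ⊡ §44 ⊡ §46 ⊡ §1 ⊡ §44 ⊡ §45 ⊡ §46 ⊡ §44 ⊡ §46 ⊡ §1 ⊡ §46 ⊡ §45 ⊡ §1 ⊡ §45), (§8, §1 ⊡ §44 ⊡ §1 ⊡ §44 ⊡ §45 ⊡ §1 ⊡ §45 ⊡ §44 ⊡ §1 ⊡ §44)]) (t := §44 ⊡ §46 ⊡ §1 ⊡ §45 ⊡ §46 ⊡ §44 ⊡ §46 ⊡ §45 ⊡ §1 ⊡ §46 ⊡ §44) h0 hC rfl gn (ok.holdsF (by decide +kernel)) (by decide))

end Cfsg.Lib.SG.Mc
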