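import Cfsg.Agent.Lib.SG.Wr

/-! # The two factors do not lie in a simple normal subgroup -/

set_option autoImplicit false

namespace Cfsg.Lib.SG.Wr

open Subgroup Cfsg.Lib.Transfer
open MulAut (conj)

variable {J G : Type*} [Group J] [Group G] {D : Dt J} (W : Wr J G) {g h a b u : G} {L : Subgroup G} [Finite G] (F : Fx D)

/-- inner on both factors -/
def Y0 : Subgroup G := fsub {g | g ∈ W.N0 ∧ Inn (W.Q.π g) ∧ Inn (W.R.π g)}
  ⟨one_mem _, W.Q.π_one ▸ inn_one, W.R.π_one ▸ inn_one⟩ fun _ p _ q =>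
    ⟨mul_mem p.1 q.1, W.Q.πm p.1.1 q.1.1 ▸ p.2.1.mul q.2.1, W.R.πm p.1.2 q.1.2 ▸ p.2.2.mul q.2.2⟩
theorem mem_Y0 : g ∈ W.Y0 ↔ g ∈ W.N0 ∧ Inn (W.Q.π g) ∧ Inn (W.R.π g) := .rfl

omit [Finite G] in
theorem RL [L.Normal] (hL : W.Q.A ≤ L) : W.R.A ≤ L := by rintro _ ⟨x, p, rfl⟩; exact Normal.conj_mem ‹_› _ (hL p) _
omit [Finite G] in
theorem dec0 {x y : G} {a b : J} (p : W.Q.L x a) (q : W.R.L y b) (h : g ∈ W.N0) (e : W.Q.π g = conj a) (f : W.R.π g = conj b) :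
    (x * y)⁻¹ * g ∈ W.Q.K ⊓ W.R.K := by
  refine mem_inf.2 ⟨?_, ?_⟩
  · rw [mul_inv_rev, mul_assoc]; exact mul_mem (inv_mem (W.RQ q.1)) (p.dec h.1 e)
  · rw [p.K (W.RQ q.1), mul_inv_rev, mul_assoc]; exact mul_mem (inv_mem (W.QR p.1)) (q.dec h.2 f)

include F

omit [Finite G] in
theorem i1 (p : g ∈ W.N0) (q : h ∈ W.N0) : Inn (W.Q.π (g * h)) ↔ (Inn (W.Q.π g) ↔ Inn (W.Q.π h)) := by rw [W.Q.πm p.1 q.1, F.inn_mul]
omit [Finite G] in
theorem i2 (p : g ∈ W.N0) (q : h ∈ W.N0) : Inn (W.R.π (g * h)) ↔ (Inn (W.R.π g) ↔ Inn (W.R.π h)) := by rw [W.R.πm p.2 q.2, F.inn_mul]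
omit [Finite G] in
theorem i3 (p : a * W.t ∈ W.N0) (q : b ∈ W.N0) : a * b * a⁻¹ * b⁻¹ ∈ W.N0 ∧ (Inn (W.Q.π (a * b * a⁻¹ * b⁻¹)) ↔ (Inn (W.Q.π b) ↔ Inn (W.R.π b))) ∧
    (Inn (W.R.π (a * b * a⁻¹ * b⁻¹)) ↔ (Inn (W.Q.π b) ↔ Inn (W.R.π b))) := by
  have m := mul_mem p (W.t0 q)
  have n := mul_mem m (inv_mem p)
  rw [show a * b * a⁻¹ = a * W.t * (W.t * b * W.t) * (a * W.t)⁻¹ by simp [mul_assoc, W.tt], W.i1 F n (inv_mem q), W.i2 F n (inv_mem q),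
    W.i1 F m (inv_mem p), W.i2 F m (inv_mem p), W.i1 F p (W.t0 q), W.i2 F p (W.t0 q), W.R_π (W.t * b * W.t), W.t_t, ← W.R_π, W.Q.πi p.1,
    W.R.πi p.2, W.Q.πi q.1, W.R.πi q.2, inn_inv, inn_inv, inn_inv, inn_inv]
  exact ⟨mul_mem n (inv_mem q), by tauto, by tauto⟩

variable [L.Normal] (hL : W.Q.A ≤ L)
include hL

theorem Y0_L (p : g ∈ W.Y0) {k : ℕ} (e : g ^ 2 ^ k = 1) : g ∈ L := by
  obtain ⟨n, ⟨a, q⟩, b, r⟩ := p
  obtain ⟨x, l⟩ := W.Q.ex' a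
  obtain ⟨y, m⟩ := W.R.ex' b
  have c := W.dec0 l m n q r
  obtain ⟨v, f⟩ := (W.oK F).pow c
  refine mem_of_odd e (m := v) ?_
  rw [← mul_inv_cancel_left (x * y) g, Commute.mul_pow (Commute.mul_left (l.K c.1) (m.K c.2)), f, mul_one]
  exact pow_mem (mul_mem (hL l.1) (W.RL hL m.1)) _

omit [Finite G] [L.Normal] in
theorem pf [IsSimpleGroup L] : _root_.commutator L = ⊤ := (Normal.eq_bot_or_eq_top inferInstance).resolve_left fun e => by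
  obtain ⟨z, p⟩ := W.Q.ex' D.z
  have := commutator_mono hL hL (W.Q.perf p.1)
  rw [← map_subtype_commutator, e, Subgroup.map_bot] at this
  exact F.z1 (p.eq_one F (mem_bot.1 this ▸ one_mem _))

variable [IsSimpleGroup L]

omit [L.Normal] in
theorem tL : W.t ∉ L := fun h => by
  obtain ⟨P, hP⟩ := (pg_zp W.t2).exists_le_sylow
  have m := hP (mem_zpowers _)
  exact thompson_transfer P (Q := W.N0) (relIndex_eq_two_iff_exists_notMem_and.2 ⟨W.t, m, fun p => W.tN F p.1,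
    fun b hb => (W.two F P.2 m hb).symm⟩) ((sq _).trans W.t2) m (fun _ => W.nc F)
    (mem_sup_right (commutator_mono le_top le_top (L.map_subtype_commutator.le ⟨⟨_, h⟩, (W.pf F hL).ge trivial, rfl⟩)))

theorem st {P : Subgroup G} (p : IsPGroup 2 P) (m : W.t ∈ P) (q : g ∈ P ⊓ L) : g * W.t ∉ W.Y0 := fun h =>
  let ⟨_, e⟩ := p ⟨_, mul_mem q.1 m⟩
  W.tL F hL ((mul_mem_cancel_left (mem_inf.1 q).2).1 (W.Y0_L F hL h (congrArg Subtype.val e)))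

theorem no_u (hu : u ∈ L) (u2 : u * u = 1) (c : u * W.t = W.t * u) : Inn (W.π u) := by_contra fun n => by
  have nb : ¬W.Big u := fun b => n (b.2.elim (· |> ((W.πQ F c b.1).1 ▸ ·)) (· |> ((W.πQ F c b.1).2 ▸ ·)))
  obtain ⟨P, hP⟩ := ((ea_zp u2).sup (ea_zp W.t2) fun x p y q =>
    (zp2 u2 p).elim (by simp [·]) fun p => (zp2 W.t2 q).elim (by simp [·]) fun q => by rw [p, q, c]).pg.exists_le_sylow
  have m := hP (mem_sup_right (mem_zpowers _))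
  have mu : u ∈ (P : Subgroup G) ⊓ L := ⟨hP (mem_sup_left (mem_zpowers _)), hu⟩
  have st := fun g => W.st F hL (g := g) P.2 m
  have two := fun {g} (h : g ∈ (P : Subgroup G) ⊓ L) => W.two F P.2 m h.1
  have bal : ∀ {a b}, a ∈ (P : Subgroup G) ⊓ L → b ∈ (P : Subgroup G) ⊓ L → a * W.t ∈ W.N0 → b ∈ W.N0 →
      a * b * a⁻¹ * b⁻¹ ∈ W.Y0 := fun {a b} p q r s => by
    obtain ⟨e0, e1, e2⟩ := W.i3 F r s
    have e3 := mul_mem (mul_mem (mul_mem p q) (inv_mem p)) (inv_mem q)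
    generalize a * b * a⁻¹ * b⁻¹ = e at *
    have a1 := st _ p
    have a2 := st _ (mul_mem e3 p)
    have a3 := st _ (mul_mem q p)
    have a4 := st _ (mul_mem e3 (mul_mem q p))
    simp only [mul_assoc, mem_Y0, W.i1 F e0 r, W.i2 F e0 r, W.i1 F s r, W.i2 F s r, W.i1 F e0 (mul_mem s r), W.i2 F e0 (mul_mem s r),
      e1, e2, r, e0, mul_mem e0 r, mul_mem s r, mul_mem e0 (mul_mem s r), true_and] at a1 a2 a3 a4 ⊢
    clear * - a1 a2 a3 a4; grind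
  have oo : ∀ {w}, w ∈ (P : Subgroup G) ⊓ L → w * w = 1 → w * W.t ∈ W.N0 → ¬Inn (W.Q.π (w * W.t)) ∧ ¬Inn (W.R.π (w * W.t)) :=
    fun {w} p q r => by
      have a1 := st _ p
      have a2 := W.i1 F r (W.t0 r)
      rw [← W.R_π, show w * W.t * (W.t * (w * W.t) * W.t) = 1 by simp [mul_assoc, W.tt, W.t2, q], W.Q.π_one] at a2
      simp only [mem_Y0, r, true_and, inn_one, true_iff] at a1 a2
      clear * - a1 a2; grind
  refine not_mem_pResidual_sup_commutator_of_conj_mem_coset ((P.2.comap_subtype (K := L)).toSylow (sylow_not_dvd_relIndex_normal P L))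
    (K := W.Y0.subgroupOf L) (g := ⟨u, hu⟩) (commutator_le.2 fun a p b q => ?_) mu.1 (fun y => nb ⟨y.1, .inl y.2.1⟩)
    (Subtype.ext ((sq u).trans u2)) (fun a p => ?_) (mem_sup_right ((W.pf F hL).ge trivial))
  · replace p : a.1 ∈ (P : Subgroup G) ⊓ L := ⟨p, a.2⟩
    replace q : b.1 ∈ (P : Subgroup G) ⊓ L := ⟨q, b.2⟩
    change a.1 * b * a.1⁻¹ * b.1⁻¹ ∈ W.Y0
    rcases two p with r | r <;> rcases two q with s | s
    · exact ⟨mul_mem (mul_mem (mul_mem r s) (inv_mem r)) (inv_mem s), W.Q.πcm F r.1 s.1, W.R.πcm F r.2 s.2⟩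
    · simpa [mul_assoc] using inv_mem (bal q p s r)
    · exact bal p q r s
    · simpa [mul_assoc] using bal p (mul_mem q (inv_mem p)) r (by simpa [mul_assoc] using mul_mem s (inv_mem r))
  · replace p : a.1 * u * a.1⁻¹ ∈ (P : Subgroup G) ⊓ L := ⟨p, (a * ⟨u, hu⟩ * a⁻¹).2⟩
    have q := W.nb F (g := a) c u2 nb
    have w2 := cj2 u2 a.1
    change a.1 * u * a.1⁻¹ * u⁻¹ ∈ W.Y0
    generalize a.1 * u * a.1⁻¹ = w at *
    rw [inv2 u2]
    rcases two p with r | r <;> rcases two mu with s | s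
    · simp only [Big, mem_Y0, r, s, mul_mem r s, W.i1 F r s, W.i2 F r s, true_and] at nb q ⊢
      clear * - nb q; grind
    · have a1 := oo mu u2 s
      have a2 := st _ (mul_mem p mu)
      simp only [Big, mul_assoc, mem_Y0, r, mul_mem r s, W.i1 F r s, W.i2 F r s, true_and] at q a2
      clear * - q a1 a2; grind
    · have a1 := oo p w2 r
      have a2 := st _ (mul_mem mu p)
      simp only [Big, mul_assoc, mem_Y0, s, mul_mem s r, W.i1 F s r, W.i2 F s r, true_and] at nb a2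
      clear * - nb a1 a2; grind
    · have a1 := oo p w2 r
      have a2 := oo mu u2 s
      rw [show w * u = w * W.t * (u * W.t)⁻¹ by simp [mul_assoc, inv2 u2]]
      simp only [mem_Y0, mul_mem r (inv_mem s), W.i1 F r (inv_mem s), W.i2 F r (inv_mem s), W.Q.πi s.1, W.R.πi s.2, inn_inv, true_and]
      clear * - a1 a2; grind

theorem no_c (hg : g ∈ L) (c : g * W.t = W.t * g) : Inn (W.π g) := by
  obtain ⟨b, e⟩ := F.o3 (W.π g)
  obtain ⟨x, l⟩ := W.Q.ex' b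
  have a1 : x * (W.t * x * W.t) * g * W.t = W.t * (x * (W.t * x * W.t) * g) := Commute.mul_left (mu_t W.t2 (W.c x l.1 x l.1)) c
  have a2 : W.π (x * (W.t * x * W.t) * g) = conj b * W.π g := by rw [W.πm (W.DN (W.mu l).1) (W.cn g c), (W.mu l).2]
  have a3 := mul_mem (mul_mem (hL l.1) (W.RL hL (W.R_L l).1)) hg
  generalize x * (W.t * x * W.t) * g = y at *
  have n := W.cn y a1
  have a4 : y * y * W.t = W.t * (y * y) := Commute.mul_left a1 a1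
  rcases W.kt _ ((W.π1 (mul_mem n n)).1 (by rw [W.πm n n, a2, e])) a4 with r | r <;> obtain ⟨m, f⟩ := W.oO.pow r
  · have := W.no_u F hL (pow_mem a3 (2 * m + 1)) (by rw [← (Commute.refl y).mul_pow, f]) (Commute.pow_left a1 _)
    rw [W.πp n, a2] at this
    exact (F.inn_odd this).of_mul' ⟨b, rfl⟩
  · rw [Commute.mul_pow a4, pow_odd W.t2] at f
    exact absurd (eq_inv_of_mul_eq_one_right f ▸ inv_mem (pow_mem (mul_mem a3 a3) _)) (W.tL F hL)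

theorem not_simple : False := by
  have : Finite J := .of_surjective _ (W.ρ_sur F)
  obtain ⟨τ, hτ⟩ := W.Q.exists_τ F
  obtain ⟨Ψ, hΨ⟩ : ∃ Ψ : D.T × D.T →* G, ∀ a b, Ψ (a, b) = τ a * (W.t * τ b * W.t) :=
    ⟨τ.noncommCoprod ((conj W.t).toMonoidHom.comp τ) fun a b => by simpa [W.ti, commute_iff_eq] using W.c _ (hτ a).1 _ (hτ b).1,
      fun a b => by simp [W.ti]⟩
  have n0 : ∀ a b, Ψ (a, b) ∈ W.N0 := fun a b => hΨ a b ▸ ⟨mul_mem (hτ a).N (W.Q.KN (W.RQ (W.R_L (hτ b)).1)),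
    mul_mem (W.R.KN (W.QR (hτ a).1)) (W.R_L (hτ b)).N⟩
  have p1 : ∀ a b, W.Q.π (Ψ (a, b)) = conj a.1 := fun a b => by
    rw [hΨ, W.Q.πm (hτ a).N (W.Q.KN (W.RQ (W.R_L (hτ b)).1)), W.Q.πK (W.RQ (W.R_L (hτ b)).1), mul_one, (hτ a).2]
  have sw : ∀ a b, W.t * Ψ (a, b) * W.t = Ψ (b, a) := fun a b => by rw [hΨ, hΨ, W.t_mul, W.t_t, W.c _ (hτ b).1 _ (hτ a).1]
  have i : Function.Injective Ψ := (injective_iff_map_eq_one _).2 fun ⟨a, b⟩ e => Prod.ext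
    (Subtype.ext (F.cj_inj ((p1 a b).symm.trans (by rw [e, W.Q.π_one]; simp))))
    (Subtype.ext (F.cj_inj ((p1 b a).symm.trans (by rw [← sw, e, mul_one, W.t2, W.Q.π_one]; simp))))
  have mL : ∀ x, Ψ x ∈ L := fun x => (hΨ x.1 x.2).symm ▸ mul_mem (hL (hτ _).1) (W.RL hL (W.R_L (hτ _)).1)
  have t0 : ∀ g ∈ Ψ.range, W.t * g * W.t ∈ Ψ.range := by rintro _ ⟨⟨a, b⟩, rfl⟩; exact ⟨(b, a), (sw a b).symm⟩
  let S1 : Subgroup G := fsub {g | g ∈ Ψ.range ∨ g * W.t ∈ Ψ.range} (.inl (one_mem _)) (by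
    rintro g (p | p) h (q | q)
    exacts [.inl (mul_mem p q), .inr (mul_assoc g h _ ▸ mul_mem p q), .inr (by simpa only [mul_assoc, W.tt] using mul_mem p (t0 _ q)),
      .inl (by simpa only [mul_assoc, W.tt, W.t2, mul_one] using mul_mem p (t0 _ q))])
  have m1 : W.t ∈ S1 := .inr (W.t2 ▸ one_mem _)
  have p0 : ∀ x : D.T × D.T, ∃ k, Ψ x ^ 2 ^ k = 1 := fun x => by
    obtain ⟨i, p⟩ := F.pT x.1
    obtain ⟨j, q⟩ := F.pT x.2
    exact ⟨i + j, by rw [← map_pow, show x ^ 2 ^ (i + j) = 1 from Prod.ext (by simp [pow_add, pow_mul, p])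
      (by simp [add_comm i, pow_add, pow_mul, q]), map_one]⟩
  obtain ⟨P, hP⟩ := (show IsPGroup 2 S1 from fun g => by
    obtain ⟨x, e⟩ : g.1 * g ∈ Ψ.range := g.2.elim (fun p => mul_mem p p) fun p => by
      simpa only [mul_assoc, W.tt, W.t2, mul_one] using mul_mem p (t0 _ p)
    obtain ⟨k, f⟩ := p0 x
    exact ⟨k + 1, Subtype.ext (by rw [pow_succ', pow_mul, sq, coe_pow, coe_mul, ← e]; exact f)⟩).exists_le_sylow
  have m := hP m1
  have q1 : ∀ g ∈ (P : Subgroup G), g ∈ W.N0 → ∀ a, W.Q.π g = conj a → a ∈ D.T := fun g p q a e =>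
    (eq_of_not_dvd_relIndex_of_le (H := ⊤) (Q := (W.Q.ia (P ⊓ W.N0)).comap conj) (by rw [relIndex_top_right]; exact F.oT)
      ((((P.2.to_inf_left).comap_subtype).map _).comap_of_injective _ fun _ _ => F.cj_inj) le_top fun b hb =>
        mem_comap.2 (p1 ⟨b, hb⟩ 1 ▸ Qs.mem_ia (inf_le_right.trans inf_le_left) ⟨hP (.inl ⟨_, rfl⟩), n0 _ _⟩)).ge
      (mem_comap.2 (e ▸ Qs.mem_ia (inf_le_right.trans inf_le_left) ⟨p, q⟩))
  have q2 : ∀ g ∈ (P : Subgroup G), g ∈ W.Y0 → g ∈ Ψ.range := fun g p ⟨q, ⟨a, e⟩, b, f⟩ => by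
    have ha := q1 g p q a e
    have hb := q1 _ (mul_mem (mul_mem m p) m) (W.t0 q) b (W.R_π g ▸ f)
    have c := W.dec0 (hτ ⟨a, ha⟩) (W.R_L (hτ ⟨b, hb⟩)) q e f
    rw [← hΨ] at c
    obtain ⟨v, r⟩ := (W.oK F).pow c
    obtain ⟨k, s⟩ := P.2 ⟨_, mul_mem (inv_mem (hP (.inl ⟨(⟨a, ha⟩, ⟨b, hb⟩), rfl⟩))) p⟩
    exact ⟨_, inv_mul_eq_one.1 (mem_bot.1 (mem_of_odd (congrArg Subtype.val s) (r ▸ one_mem _)))⟩
  let H : Subgroup G := fsub {g | g ∈ (P : Subgroup G) ∧ (g ∈ L ∨ g * W.t ∈ L)} ⟨one_mem _, .inl (one_mem _)⟩ (by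
    have tl : ∀ g ∈ L, W.t * g * W.t ∈ L := fun g p => by simpa only [W.ti] using Normal.conj_mem ‹_› g p W.t
    rintro g ⟨a, p | p⟩ h ⟨b, q | q⟩ <;> refine ⟨mul_mem a b, ?_⟩
    exacts [.inl (mul_mem p q), .inr (mul_assoc g h _ ▸ mul_mem p q), .inr (by simpa only [mul_assoc, W.tt] using mul_mem p (tl _ q)),
      .inl (by simpa only [mul_assoc, W.tt, W.t2, mul_one] using mul_mem p (tl _ q))])
  have e1 : S1 = H := (show S1 ≤ H from fun g p => ⟨hP p, p.imp (fun ⟨x, e⟩ => e ▸ mL x) fun ⟨x, e⟩ => e ▸ mL x⟩).eq_or_lt.resolve_right fun l => by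
    obtain ⟨y, a, n⟩ := SetLike.exists_of_lt (lt_inf_normalizer_of_lt (P.2.to_le (show H ≤ P from fun _ p => p.1)) l)
    replace a := mem_inf.1 a
    obtain ⟨a, b⟩ := a
    wlog c : y ∈ L generalizing y
    · exact this (y * W.t) (fun p => n ((mul_mem_cancel_right m1).1 p)) (mul_mem a ⟨m, .inr (W.t2 ▸ one_mem _)⟩)
        (mul_mem b (le_normalizer m1)) (a.2.resolve_left c)
    obtain ⟨⟨u, w⟩, e⟩ := (nrm_of b m1).resolve_left fun ⟨x, e⟩ => W.nc F (e ▸ n0 x.1 x.2)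
    have k : Ψ ((u, w) * (w, u)) = Ψ 1 := by rw [map_mul, ← sw u w, e]; simp [mul_assoc, W.tt, W.t2]
    have d : (Ψ (u, 1))⁻¹ * y * W.t = W.t * ((Ψ (u, 1))⁻¹ * y) := by
      rw [mul_assoc, mul_inv_eq_iff_eq_mul.1 (eq_mul_inv_iff_mul_eq.2 e.symm), ← map_inv, W.ti, ← mul_assoc, ← mul_assoc, ← map_mul,
        ← mul_assoc, ← mul_inv_cancel_right (W.t * _) W.t, Prod.inv_mk, sw, eq_inv_of_mul_eq_one_right (show u * w = 1 from (Prod.ext_iff.1 (i k)).1), W.ti]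
      simp
    have r : Ψ (u, 1) ∈ S1 := .inl ⟨_, rfl⟩
    have s := mul_mem (inv_mem (hP r)) a.1
    have o := mul_mem (inv_mem (mL (u, 1))) c
    have f := W.no_c F hL o d
    rcases W.cN F d with v | v
    · exact n ((mul_mem_cancel_left (inv_mem r)).1 (.inl (q2 _ s ⟨v, (W.πQ F d v).1 ▸ f, (W.πQ F d v).2 ▸ f⟩)))
    · have d' : (Ψ (u, 1))⁻¹ * y * W.t * W.t = W.t * ((Ψ (u, 1))⁻¹ * y * W.t) := Commute.mul_left d (.refl _)
      rw [← mul_one (W.π _), ← W.πK W.tK, ← W.πm (W.cn _ d) (W.KN W.tK)] at f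
      exact W.st F hL P.2 m ⟨s, o⟩ ⟨v, (W.πQ F d' v).1 ▸ f, (W.πQ F d' v).2 ▸ f⟩
  have sd : ∀ (S : Qs J G) (h : S.A ≤ L) (Φ : D.T × D.T →* L), (∀ a, S.L (Φ (a, 1)) a) → (∀ b, (Φ (1, b)).1 ∈ S.K) →
      Side ⁅D.V.subgroupOf D.T, D.W.subgroupOf D.T⁆ Φ := fun S h Φ a1 a2 => by
    refine ⟨S.A.subgroupOf L, fun a => ?_, fun x p b => Subtype.ext (a2 b x p), fun a a3 => ?_⟩
    · have := S.perf (a1 a).1
      rw [← map_subgroupOf_eq_of_le h, ← map_commutator] at this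
      obtain ⟨x, p, e⟩ := this
      exact Subtype.ext e ▸ p
    · obtain ⟨g, p⟩ := F.toZ a (congrArg Subtype.val a3)
      rw [← map_subgroupOf_eq_of_le F.VT, ← map_subgroupOf_eq_of_le F.WT, ← map_commutator] at p
      obtain ⟨v, p, e⟩ := p
      obtain ⟨x, l⟩ := S.ex' g
      have k : ∀ {a}, a * a = 1 → (Φ (a, 1)).1 * Φ (a, 1) = 1 := fun p => by
        rw [← coe_mul, ← map_mul, Prod.mk_mul_mk, p, one_mul]; exact congrArg Subtype.val (map_one Φ)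
      exact ⟨⟨x, h l.1⟩, l.1, v, p, Subtype.ext (((l.mul (a1 a)).mul l.inv).eq2 (e ▸ a1 v) (cj2 (k a3) x) (k (F.ty.sV v (F.ty.Z_le p).1)))⟩
  refine Pr.not_simple ⟨Ψ.codRestrict L mL, fun _ _ e => i (congrArg Subtype.val e), ?_,
    sd W.Q hL _ (fun a => ?_) fun b => ?_, sd W.R (W.RL hL) _ (fun a => ?_) fun b => ?_⟩ F.ty ‹_›
  · convert sylow_not_dvd_relIndex_normal P L using 2
    rw [relIndex]
    congr 1
    exact Subgroup.ext fun g => ⟨fun ⟨x, e⟩ => hP (.inl ⟨x, congrArg Subtype.val e⟩), fun h => (e1.ge ⟨h, .inl g.2⟩).elim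
      (fun ⟨x, e⟩ => ⟨x, Subtype.ext e⟩) fun ⟨x, e⟩ => absurd ((mul_mem_cancel_left g.2).1 (e ▸ mL x)) (W.tL F hL)⟩
  · change W.Q.L (Ψ (a, 1)) a
    rw [hΨ, map_one, mul_one, W.t2, mul_one]; exact hτ a
  · change Ψ (1, b) ∈ _
    rw [hΨ, map_one, one_mul]; exact W.RQ (W.R_L (hτ b)).1
  · change W.R.L (Ψ (1, a)) a
    rw [hΨ, map_one, one_mul]; exact W.R_L (hτ a)
  · change Ψ (b, 1) ∈ _
    rw [hΨ, map_one, mul_one, W.t2, mul_one]; exact W.QR (hτ b).1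

end Cfsg.Lib.SG.Wr
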